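import Mathlib.AlgebraicGeometry.Limits
import Mathlib.AlgebraicGeometry.Morphisms.Affine
import Mathlib.AlgebraicGeometry.Morphisms.Separated
import Mathlib.AlgebraicGeometry.Morphisms.QuasiSeparated

/-!
# Zariski coverings of inverse systems over cofinite ordered sets
-/

set_option autoImplicit false
set_option backward.isDefEq.respectTransparency false
set_option linter.style.haveILetI false

universe v u

open AlgebraicGeometry CategoryTheory Limits Opposite TopologicalSpace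

noncomputable section

namespace Groth.Agent.CofiniteCover

lemma exists_sigmaι {σ : Type v} [Small.{u} σ] (g : σ → Scheme.{u}) (z : (∐ g :)) : ∃ i y, Sigma.ι g i y = z := by
  obtain ⟨i, y, hy⟩ := (sigmaOpenCover g).exists_eq z
  exact ⟨i, y, hy⟩

lemma isCompact_finsetInf {X : Scheme.{u}} [QuasiSeparatedSpace X] {ι : Type*} (D : ι → X.Opens)
    (hD : ∀ i, IsCompact (D i : Set X)) {s : Finset ι} (hs : s.Nonempty) :
    IsCompact ((s.inf D : X.Opens) : Set X) := by
  induction hs using Finset.Nonempty.cons_induction with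
  | singleton a => simpa using hD a
  | cons a s ha hs ih =>
    rw [Finset.inf_cons]
    exact QuasiSeparatedSpace.inter_isCompact _ _ (D a).2 (hD a) (s.inf D).2 ih

/-- Local isomorphism by a partition into opens. -/
def IsZarCover {Y X : Scheme.{u}} (f : Y ⟶ X) : Prop :=
  Surjective f ∧ ∃ (ι : Type u) (U : ι → Y.Opens), Pairwise (fun i j => Disjoint (U i) (U j)) ∧ iSup U = ⊤ ∧
    ∀ i, IsOpenImmersion ((U i).ι ≫ f)

lemma IsZarCover.comp {Z Y X : Scheme.{u}} {g : Z ⟶ Y} {f : Y ⟶ X} (hg : IsZarCover g) (hf : IsZarCover f) :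
    IsZarCover (g ≫ f) := by
  obtain ⟨hgs, ι, U, hd, hc, ho⟩ := hg
  obtain ⟨hfs, κ, W, hd', hc', ho'⟩ := hf
  refine ⟨inferInstance, ι × κ, fun p => U p.1 ⊓ g ⁻¹ᵁ W p.2, fun p q hpq => ?_, ?_, fun p => ?_⟩
  · by_cases h1 : p.1 = q.1
    · have h2 : p.2 ≠ q.2 := fun h => hpq (Prod.ext h1 h)
      refine disjoint_iff_inf_le.2 fun z hz => ?_
      exact ((disjoint_iff_inf_le.1 (hd' h2)) ⟨hz.1.2, hz.2.2⟩ : False).elim
    · exact (hd h1).mono inf_le_left inf_le_left
  · refine top_le_iff.1 fun z _ => ?_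
    obtain ⟨i, hi⟩ := Opens.mem_iSup.1 (hc.ge (show z ∈ (⊤ : Z.Opens) from trivial))
    obtain ⟨j, hj⟩ := Opens.mem_iSup.1 (hc'.ge (show g z ∈ (⊤ : Y.Opens) from trivial))
    exact Opens.mem_iSup.2 ⟨(i, j), hi, hj⟩
  · haveI := ho p.1
    haveI := ho' p.2
    let a : ((U p.1 ⊓ g ⁻¹ᵁ W p.2 : Z.Opens) : Scheme.{u}) ⟶ (W p.2 : Scheme.{u}) :=
      g.resLE (W p.2) _ inf_le_right
    have ha : a ≫ (W p.2).ι = Z.homOfLE inf_le_left ≫ (U p.1).ι ≫ g := by
      rw [Scheme.Hom.resLE_comp_ι, Scheme.homOfLE_ι_assoc]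
    haveI : IsOpenImmersion (a ≫ (W p.2).ι) := by rw [ha]; infer_instance
    haveI : IsOpenImmersion a := IsOpenImmersion.of_comp a (W p.2).ι
    rw [← Scheme.Hom.resLE_comp_ι_assoc g (show U p.1 ⊓ g ⁻¹ᵁ W p.2 ≤ g ⁻¹ᵁ W p.2 from inf_le_right)]
    infer_instance

variable {Λ : Type v} [PartialOrder Λ] (X : Λᵒᵖ ⥤ Scheme.{u}) {n : Λ → ℕ}
  (V : ∀ l, Fin (n l) → (X.obj (op l)).Opens)

/-- Transition map. -/
abbrev tr {m l : Λ} (h : m ≤ l) : X.obj (op l) ⟶ X.obj (op m) := X.map (homOfLE h).op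

lemma tr_tr {k m l : Λ} (h : k ≤ m) (h' : m ≤ l) : tr X h' ≫ tr X h = tr X (h.trans h') := by
  rw [tr, tr, ← X.map_comp]; rfl

lemma tr_self (l : Λ) : tr X (le_refl l) = 𝟙 _ := by
  rw [tr, ← X.map_id]; rfl

/-- A chart over every index below. -/
abbrev Choice (n : Λ → ℕ) (l : Λ) : Type v := ∀ m : Set.Iic l, Fin (n m.1)

variable (hΛ : ∀ l : Λ, (Set.Iic l).Finite)

/-- The open piece of a choice. -/
def piece (l : Λ) (i : Choice n l) : (X.obj (op l)).Opens :=
  ⟨⋂ m : Set.Iic l, ((tr X m.2 ⁻¹ᵁ V m.1 (i m) : (X.obj (op l)).Opens) : Set (X.obj (op l))),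
    haveI := (hΛ l).to_subtype
    isOpen_iInter_of_finite fun m => (tr X m.2 ⁻¹ᵁ V m.1 (i m)).2⟩

lemma mem_piece {l : Λ} {i : Choice n l} {x : X.obj (op l)} :
    x ∈ piece X V hΛ l i ↔ ∀ m : Set.Iic l, tr X m.2 x ∈ V m.1 (i m) := by
  simp [piece, ← SetLike.mem_coe]

/-- Restriction of choices. -/
def restr {k l : Λ} (h : k ≤ l) (i : Choice n l) : Choice n k := fun m => i ⟨m.1, le_trans m.2 h⟩

lemma piece_le {k l : Λ} (h : k ≤ l) (i : Choice n l) :
    piece X V hΛ l i ≤ tr X h ⁻¹ᵁ piece X V hΛ k (restr h i) := fun x hx => by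
  rw [Scheme.Hom.mem_preimage, mem_piece]
  intro m
  have h1 := (mem_piece X V hΛ).1 hx ⟨m.1, le_trans m.2 h⟩
  rw [← tr_tr X (Set.mem_Iic.1 m.2) h, Scheme.Hom.comp_apply] at h1
  exact h1

variable [∀ l, Finite (Choice n l)]

/-- The covering scheme. -/
abbrev cov (l : Λ) : Scheme.{u} := ∐ fun i : Choice n l => (piece X V hΛ l i : Scheme.{u})

/-- Its map. -/
def covπ (l : Λ) : cov X V hΛ l ⟶ X.obj (op l) := Sigma.desc fun i => (piece X V hΛ l i).ι

/-- Its transition. -/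
def covTr {k l : Λ} (h : k ≤ l) : cov X V hΛ l ⟶ cov X V hΛ k :=
  Sigma.desc fun i => (tr X h).resLE _ _ (piece_le X V hΛ h i) ≫
    Sigma.ι (fun i : Choice n k => (piece X V hΛ k i : Scheme.{u})) (restr h i)

lemma ι_covTr {k l : Λ} (h : k ≤ l) (i : Choice n l) :
    Sigma.ι _ i ≫ covTr X V hΛ h = (tr X h).resLE _ _ (piece_le X V hΛ h i) ≫
      Sigma.ι (fun i : Choice n k => (piece X V hΛ k i : Scheme.{u})) (restr h i) :=
  Sigma.ι_desc _ _

/-- The covering system. -/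
def covFun : Λᵒᵖ ⥤ Scheme.{u} where
  obj l := cov X V hΛ l.unop
  map f := covTr X V hΛ (leOfHom f.unop)
  map_id l := by
    refine Sigma.hom_ext _ _ fun i => ?_
    rw [ι_covTr, Category.comp_id]
    have e : (tr X (leOfHom (𝟙 l.unop))).resLE _ _ (piece_le X V hΛ _ i) =
        𝟙 (piece X V hΛ l.unop i : Scheme.{u}) := by
      rw [← cancel_mono (piece X V hΛ l.unop i).ι, Category.id_comp]
      exact (Scheme.Hom.resLE_comp_ι _ _).trans (by rw [tr_self]; exact Category.comp_id _)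
    exact (congrArg (· ≫ Sigma.ι (fun i => (piece X V hΛ l.unop i : Scheme.{u})) i) e).trans (Category.id_comp _)
  map_comp {l k m} f g := by
    refine Sigma.hom_ext _ _ fun i => ?_
    rw [ι_covTr, reassoc_of% (ι_covTr X V hΛ (leOfHom f.unop) i), ι_covTr, ← Category.assoc]
    have e : (tr X (leOfHom f.unop)).resLE _ _ (piece_le X V hΛ _ i) ≫
        (tr X (leOfHom g.unop)).resLE _ _ (piece_le X V hΛ _ (restr (leOfHom f.unop) i)) =
      (tr X (leOfHom (f ≫ g).unop)).resLE _ _ (piece_le X V hΛ _ i) := by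
      rw [← cancel_mono (piece X V hΛ m.unop (restr (leOfHom g.unop) (restr (leOfHom f.unop) i))).ι,
        Category.assoc, Scheme.Hom.resLE_comp_ι, Scheme.Hom.resLE_comp_ι_assoc]
      rw [tr_tr]
      exact (Scheme.Hom.resLE_comp_ι _ _).symm
    exact congrArg (· ≫ Sigma.ι (fun i => (piece X V hΛ m.unop i : Scheme.{u})) _) e.symm

/-- The covering map of systems. -/
def covNat : covFun X V hΛ ⟶ X where
  app l := covπ X V hΛ l.unop
  naturality l k f := by
    refine Sigma.hom_ext _ _ fun i => ?_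
    change Sigma.ι _ i ≫ covTr X V hΛ _ ≫ covπ X V hΛ k.unop = Sigma.ι _ i ≫ covπ X V hΛ l.unop ≫ X.map f
    rw [reassoc_of% (ι_covTr X V hΛ (leOfHom f.unop) i)]
    simp only [covπ, Sigma.ι_desc, Sigma.ι_desc_assoc, Scheme.Hom.resLE_comp_ι]
    rfl

lemma isZarCover_covπ (hcov : ∀ l, iSup (V l) = ⊤) (l : Λ) : IsZarCover (covπ X V hΛ l) := by
  refine ⟨⟨fun x => ?_⟩, ULift.{u} (Fin (Nat.card (Choice n l))),
    fun j => (Sigma.ι (fun i : Choice n l => (piece X V hΛ l i : Scheme.{u})) ((Finite.equivFin _).symm j.down)).opensRange,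
    fun a b hab => disjoint_opensRange_sigmaι _ _ _ fun e => hab (ULift.ext _ _ ((Finite.equivFin _).symm.injective e)),
    ?_, fun j => ?_⟩
  · have hc : ∀ m : Set.Iic l, ∃ j, tr X m.2 x ∈ V m.1 j := fun m =>
      Opens.mem_iSup.1 ((hcov m.1).ge (show tr X m.2 x ∈ (⊤ : (X.obj (op m.1)).Opens) from trivial))
    choose i hi using hc
    refine ⟨Sigma.ι (fun i : Choice n l => (piece X V hΛ l i : Scheme.{u})) i ⟨x, (mem_piece X V hΛ).2 hi⟩, ?_⟩
    rw [← Scheme.Hom.comp_apply]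
    simp only [covπ, Sigma.ι_desc]
    rfl
  · refine top_le_iff.1 fun z _ => ?_
    obtain ⟨i, y, rfl⟩ := exists_sigmaι (fun i : Choice n l => (piece X V hΛ l i : Scheme.{u})) z
    refine Opens.mem_iSup.2 ⟨⟨Finite.equivFin _ i⟩, ?_⟩
    have key : ∀ k, k = i → Sigma.ι (fun i : Choice n l => (piece X V hΛ l i : Scheme.{u})) i y ∈
        (Sigma.ι (fun i : Choice n l => (piece X V hΛ l i : Scheme.{u})) k).opensRange := by
      intro k hk; subst hk; exact ⟨y, rfl⟩
    exact key _ (Equiv.symm_apply_apply _ _)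
  · let g := Sigma.ι (fun i : Choice n l => (piece X V hΛ l i : Scheme.{u})) ((Finite.equivFin _).symm j.down)
    have e : g.opensRange.ι ≫ covπ X V hΛ l = g.isoOpensRange.inv ≫ (piece X V hΛ l ((Finite.equivFin _).symm j.down)).ι := by
      rw [← Scheme.Hom.isoOpensRange_inv_comp g, Category.assoc]
      exact congrArg (g.isoOpensRange.inv ≫ ·) (Sigma.ι_desc _ _)
    rw [e]; infer_instance

lemma isSeparated_cov (hV : ∀ l j, IsAffineOpen (V l j)) (l : Λ) : (cov X V hΛ l).IsSeparated := by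
  let A : Choice n l → Scheme.{u} := fun i => (V l (i ⟨l, le_refl l⟩) : Scheme.{u})
  haveI : ∀ i, IsAffine (A i) := fun i => hV l _
  have hle : ∀ i : Choice n l, piece X V hΛ l i ≤ V l (i ⟨l, le_refl l⟩) := fun i x hx => by
    have := (mem_piece X V hΛ).1 hx ⟨l, le_refl l⟩
    rwa [show tr X (show l ≤ l from le_refl l) = 𝟙 _ from tr_self X l] at this
  let a : cov X V hΛ l ⟶ ∐ A := Sigma.desc fun i => (X.obj (op l)).homOfLE (hle i) ≫ Sigma.ι A i
  haveI : IsOpenImmersion a := by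
    refine isOpenImmersion_sigmaDesc _ _ fun i j hij => ?_
    refine Set.disjoint_of_subset ?_ ?_ (Opens.coe_disjoint.2 (disjoint_opensRange_sigmaι A i j hij))
    all_goals
      rintro _ ⟨y, rfl⟩
      exact ⟨_, rfl⟩
  haveI : IsSeparated (a ≫ terminal.from (∐ A)) := inferInstance
  exact ⟨by rw [show terminal.from (cov X V hΛ l) = a ≫ terminal.from _ from (terminal.hom_ext _ _)]; infer_instance⟩

lemma isAffine_cov (hV : ∀ l j, IsAffineOpen (V l j)) (hsep : ∀ l, (X.obj (op l)).IsSeparated) (l : Λ) :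
    IsAffine (cov X V hΛ l) := by
  haveI := hsep
  haveI : ∀ i : Choice n l, IsAffine (piece X V hΛ l i : Scheme.{u}) := fun i => by
    haveI := (hΛ l).to_subtype
    let D : Set.Iic l → (X.obj (op l)).Opens := fun m => V l (i ⟨l, le_refl l⟩) ⊓ tr X m.2 ⁻¹ᵁ V m.1 (i m)
    have hD : ∀ m, IsAffineOpen (D m) := fun m => by
      let A := V l (i ⟨l, le_refl l⟩)
      haveI : IsAffine (A : Scheme.{u}) := hV l _
      haveI : IsAffineHom ((A.ι ≫ tr X m.2) ≫ terminal.from (X.obj (op m.1))) := isAffineHom_of_isAffine _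
      haveI : IsAffineHom (A.ι ≫ tr X m.2) :=
        MorphismProperty.of_postcomp (W := @IsAffineHom) (W' := @IsSeparated) _ (terminal.from (X.obj (op m.1)))
          inferInstance inferInstance
      have h1 : IsAffineOpen ((A.ι ≫ tr X m.2) ⁻¹ᵁ V m.1 (i m)) := (hV _ _).preimage _
      have h2 := h1.image_of_isOpenImmersion A.ι
      rwa [Scheme.Hom.comp_preimage, Scheme.Hom.image_preimage_eq_opensRange_inf, Scheme.Opens.opensRange_ι] at h2
    have hs : ∀ s : Finset (Set.Iic l), s.Nonempty → IsAffineOpen (s.inf D) := by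
      intro s hs
      induction hs using Finset.Nonempty.cons_induction with
      | singleton a => simpa using hD a
      | cons a s ha hs ih => rw [Finset.inf_cons]; exact (hD a).inf ih
    haveI := Fintype.ofFinite (Set.Iic l)
    have hp : piece X V hΛ l i = Finset.univ.inf D := by
      refine le_antisymm (Finset.le_inf fun m _ x hx => ⟨?_, (mem_piece X V hΛ).1 hx m⟩) fun x hx => ?_
      · have := (mem_piece X V hΛ).1 hx ⟨l, le_refl l⟩
        rwa [show tr X (show l ≤ l from le_refl l) = 𝟙 _ from tr_self X l] at this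
      · exact (mem_piece X V hΛ).2 fun m => ((Finset.inf_le (f := D) (Finset.mem_univ m)) hx).2
    rw [hp]
    exact hs _ ⟨⟨l, le_refl l⟩, Finset.mem_univ _⟩
  infer_instance

lemma exists_charts (hqc : ∀ l : Λ, CompactSpace ↥(X.obj (op l))) : ∃ (n : Λ → ℕ) (V : ∀ l, Fin (n l) → (X.obj (op l)).Opens),
    (∀ l j, IsAffineOpen (V l j)) ∧ ∀ l, iSup (V l) = ⊤ := by
  have h : ∀ l : Λ, ∃ (k : ℕ) (V : Fin k → (X.obj (op l)).Opens), (∀ j, IsAffineOpen (V j)) ∧ iSup V = ⊤ := fun l => by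
    haveI := hqc l
    obtain ⟨s, hs⟩ := (isCompact_univ (X := X.obj (op l))).elim_finite_subcover
      (fun U : (X.obj (op l)).affineOpens => (U.1 : Set (X.obj (op l)))) (fun U => U.1.2) (fun x _ => by
        obtain ⟨_, ⟨U, hU, rfl⟩, hxU, -⟩ := (X.obj (op l)).isBasis_affineOpens.exists_subset_of_mem_open
          (Set.mem_univ x) isOpen_univ
        exact Set.mem_iUnion.2 ⟨⟨U, hU⟩, hxU⟩)
    refine ⟨s.card, fun j => (s.equivFin.symm j).1.1, fun j => (s.equivFin.symm j).1.2, top_le_iff.1 fun x _ => ?_⟩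
    obtain ⟨U, hU, hx⟩ := Set.mem_iUnion₂.1 (hs (Set.mem_univ x))
    exact Opens.mem_iSup.2 ⟨s.equivFin ⟨U, hU⟩, by simpa using hx⟩
  choose n V h1 h2 using h
  exact ⟨n, V, h1, h2⟩

include hΛ in
theorem exists_affine_system (hqc : ∀ l : Λ, CompactSpace ↥(X.obj (op l)))
    (hqs : ∀ l : Λ, QuasiSeparatedSpace ↥(X.obj (op l))) :
    ∃ (Y : Λᵒᵖ ⥤ Scheme.{u}) (π : Y ⟶ X), ∀ l : Λ, IsAffine (Y.obj (op l)) ∧ IsZarCover (π.app (op l)) := by
  obtain ⟨n₁, V₁, hV₁, hc₁⟩ := exists_charts X hqc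
  haveI : ∀ l, Finite (Choice n₁ l) := fun l => by haveI := (hΛ l).to_subtype; infer_instance
  let X' := covFun X V₁ hΛ
  have hqc' : ∀ l : Λ, CompactSpace ↥(X'.obj (op l)) := fun l => by
    haveI : ∀ i : Choice n₁ l, CompactSpace (piece X V₁ hΛ l i : Scheme.{u}) := fun i => by
      haveI := (hΛ l).to_subtype
      haveI := hqs l
      refine isCompact_iff_compactSpace.1 ?_
      haveI := Fintype.ofFinite (Set.Iic l)
      have hp : piece X V₁ hΛ l i = Finset.univ.inf fun m : Set.Iic l => tr X m.2 ⁻¹ᵁ V₁ m.1 (i m) :=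
        le_antisymm (Finset.le_inf fun m _ x hx => (mem_piece X V₁ hΛ).1 hx m)
          (fun x hx => (mem_piece X V₁ hΛ).2 fun m =>
            (Finset.inf_le (f := fun m : Set.Iic l => tr X m.2 ⁻¹ᵁ V₁ m.1 (i m)) (Finset.mem_univ m)) hx)
      rw [hp]
      refine isCompact_finsetInf _ (fun m => ?_) ⟨⟨l, le_refl l⟩, Finset.mem_univ _⟩
      haveI := hqc l
      haveI := hqs m.1
      exact (tr X m.2).isCompact_preimage (hV₁ _ _).isCompact
    refine ⟨?_⟩
    have he : (Set.univ : Set (cov X V₁ hΛ l)) = ⋃ i : Choice n₁ l,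
        Set.range (Sigma.ι (fun i : Choice n₁ l => (piece X V₁ hΛ l i : Scheme.{u})) i).base :=
      (Set.eq_univ_of_forall fun z => Set.mem_iUnion.2 (exists_sigmaι _ z)).symm
    change IsCompact (Set.univ : Set (cov X V₁ hΛ l))
    rw [he]
    exact isCompact_iUnion fun i => isCompact_range (Scheme.Hom.continuous _)
  obtain ⟨n₂, V₂, hV₂, hc₂⟩ := exists_charts X' hqc'
  haveI : ∀ l, Finite (Choice n₂ l) := fun l => by haveI := (hΛ l).to_subtype; infer_instance
  exact ⟨covFun X' V₂ hΛ, covNat X' V₂ hΛ ≫ covNat X V₁ hΛ, fun l =>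
    ⟨isAffine_cov X' V₂ hΛ hV₂ (fun m => isSeparated_cov X V₁ hΛ hV₁ m) l,
      (isZarCover_covπ X' V₂ hΛ hc₂ l).comp (isZarCover_covπ X V₁ hΛ hc₁ l)⟩⟩

end Groth.Agent.CofiniteCover
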